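import Cfsg.Agent.H950.L16.Stab
import Cfsg.Agent.H413.L16.Br

/-!
# S5916 (`L₂(16)` in `E₈(2)`): interface

Frame coordinates `u = z⁻¹ v` of the Lie algebra `LK`; families of vectors in place of simple modules.

Roots: index `s < 240` of `chevE8`, `239 - s` is the negative. `β = (a₇, a₅, a₂, a₃) = (121, 126, 141, 135)`,
`γ = (152, 159, 226, 239)`; `w : β₀ → β₁ → β₂ → β₃ → β₀`, `γ₀ → γ₁ → γ₂ → γ₃ → -γ₀`.
-/

set_option autoImplicit false
set_option maxRecDepth 100000

namespace Cfsg.Agent.H939.L16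

open Matrix Cfsg Cfsg.Lie
open Cfsg.Agent.H939.L64 (KK E2 LK em aK rE fr brK)
open Cfsg.Agent.H413.L16 (er hv hr tg)

/-! ### the frame of an element of order 17, explicit operators -/

/-- the vector (simple roots `a₁, …, a₈`) of the class of elements of order 17 with `dim C = 16` -/
def V16 : Fin 8 → ZMod 17 := ![1, 0, 0, 1, 0, 1, 0, 2]

/-- the permutation `w` of the indices of the roots -/
def WT : List ℕ := [152, 9, 10, 26, 36, 46, 47, 56, 57, 66, 71, 110, 114, 0, 48, 58, 67, 72, 111, 115, 1, 68, 73, 112,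
  116, 2, 76, 130, 131, 5, 142, 143, 7, 174, 16, 17, 77, 136, 137, 6, 147, 148, 8, 184, 21, 22, 153, 156, 11, 194, 27, 30,
  204, 37, 40, 78, 154, 157, 12, 195, 28, 31, 205, 38, 41, 79, 214, 49, 52, 88, 99, 219, 59, 62, 93, 105, 117, 119, 155,
  158, 13, 196, 29, 32, 206, 39, 42, 80, 215, 50, 53, 89, 100, 216, 51, 54, 90, 101, 104, 220, 60, 63, 94, 106, 118, 221,
  61, 64, 95, 107, 224, 69, 70, 98, 225, 74, 75, 235, 113, 236, 3, 126, 4, 164, 165, 14, 141, 169, 170, 15, 132, 144, 175,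
  178, 18, 121, 133, 145, 176, 179, 19, 135, 138, 149, 185, 188, 23, 139, 150, 186, 189, 24, 159, 197, 200, 33, 207, 210,
  43, 226, 81, 84, 120, 122, 134, 146, 177, 180, 20, 140, 151, 187, 190, 25, 160, 198, 201, 34, 208, 211, 44, 227, 82, 85,
  161, 199, 202, 35, 209, 212, 45, 228, 83, 86, 217, 218, 55, 231, 91, 92, 233, 102, 103, 162, 222, 223, 65, 232, 96, 97,
  234, 108, 109, 163, 237, 123, 127, 166, 171, 238, 124, 128, 167, 172, 181, 191, 239, 125, 129, 168, 173, 182, 183, 192,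
  193, 203, 213, 229, 230, 87]

/-- the permutation `w` -/
def wi (s : ℕ) : ℕ := WT.getD s 240

/-- `x_r(c)` in characteristic two : `v + c [e_r, v] + c² v_{-r} e_r` (an operator on `LK`, `r < 240`) -/
noncomputable def xl (r : Fin chevE8.nroots) (c : KK) (v : LK) : LK :=
  v + c • brK (er r) v + (c ^ 2 * v (Sum.inr (Fin.rev r))) • er r

/-- `i = ∏ x_{β_j}(1)` -/
noncomputable def iz (v : LK) : LK :=
  xl ⟨121, by decide +kernel⟩ 1 (xl ⟨126, by decide +kernel⟩ 1 (xl ⟨141, by decide +kernel⟩ 1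
    (xl ⟨135, by decide +kernel⟩ 1 v)))

/-- **the operators of the frame**: `Fp` the Frobenius map, `ta` the action of `τ = m⁴` -/
structure Ops (Fp : LK → LK) (ta : LK →ₗ[KK] LK) : Prop where
  add : ∀ u v, Fp (u + v) = Fp u + Fp v
  smul : ∀ (c : KK) u, Fp (c • u) = c ^ 2 • Fp u
  br : ∀ u v, Fp (brK u v) = brK (Fp u) (Fp v)
  er : ∀ s < 240, Fp (er s) = er (wi s)
  inj : Function.Injective Fp
  tbr : ∀ u v, ta (brK u v) = brK (ta u) (ta v)
  ter : ∀ s < 240, ta (Cfsg.Agent.H413.L16.er s) = Cfsg.Agent.H413.L16.er (wi (wi (wi (wi s))))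
  comm : ∀ u, Fp (ta u) = ta (Fp u)
  tt : ∀ u, ta (ta u) = u

/-- the weight of a root : `V16` modulo 17 -/
def wt16 (s : ℕ) : ZMod 17 := ∑ i : Fin 8, V16 i * (Cfsg.Agent.ChevalleyStructure.RootVec.rt chevE8 s i : ℤ)

/-- the weight spaces, `a ≠ 0` -/
noncomputable def Wt (a : ZMod 17) : Submodule KK LK :=
  Submodule.span KK {v | ∃ s < 240, wt16 s = a ∧ v = er s}

/-! ### the solutions of `[u, t u] = 0` -/

/-- `R1` (weight 1) : `a`, `o`, `m`, `l`, `k` -/
noncomputable def vR1 (a o m l k : KK) : LK := a • er 128 + o • er 148 + m • er 137 + l • er 143 + k • er 147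

/-- the second component (weight 1) -/
noncomputable def vR2 (a o m w k : KK) : LK := a • er 128 + o • er 148 + m • er 137 + w • (er 136 + er 163) + k • er 147

/-- the third component (weight 1) -/
noncomputable def vR3 (a o m A l : KK) : LK := a • er 128 + o • er 148 + m • er 137 + A • (er 127 + er 131) + l • er 143

/-- the first component (weight 3) : `T1` of helper940, `N1` of helper955 -/
noncomputable def vT1 (P Q q p : KK) : LK := P • er 157 + Q • er 172 + q • (er 167 + er 2) + p • (er 154 + er 2)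

/-- the second component (weight 3) -/
noncomputable def vT2 (P Q q p : KK) : LK := P • er 157 + Q • er 172 + q • (er 167 + er 2) + p • (er 156 + er 129)

/-! ### the frame in the group -/

/-- `SL₂(F)` in frame coordinates -/
noncomputable def rz {F : Type*} [Field F] (z : ↥(chevE8.group KK)) (f : SpecialLinearGroup (Fin 2) F →* E2) :
    Representation KK (SpecialLinearGroup (Fin 2) F) LK where
  toFun s := Matrix.mulVecLin (((z⁻¹ * em (f s) * z : ↥(chevE8.group KK)) : GL chevE8.Idx KK) :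
    Matrix chevE8.Idx chevE8.Idx KK)
  map_one' := by
    rw [map_one, map_one, mul_one, inv_mul_cancel]
    exact Matrix.mulVecLin_one
  map_mul' a b := by
    have h : z⁻¹ * em (f (a * b)) * z = (z⁻¹ * em (f a) * z) * (z⁻¹ * em (f b) * z) := by
      rw [map_mul, map_mul]; group
    rw [h, Subgroup.coe_mul, Units.val_mul]
    exact Matrix.mulVecLin_mul _ _

theorem rz_apply {F : Type*} [Field F] (z : ↥(chevE8.group KK)) (f : SpecialLinearGroup (Fin 2) F →* E2)
    (s : SpecialLinearGroup (Fin 2) F) (v : LK) : rz z f s v = aK (z⁻¹ * em (f s) * z) v := rfl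

/-- **the situation of the Lie algebra**: `E₈(2) ≥ H ≥ S = f(SL₂(16))`, `y` of order 17 with the frame `z`, `ζ'` the
eigenvalue in the frame, `Fp`, `ta` the explicit operators -/
structure Lsit {F : Type} [Field F] [Fintype F] (H : Subgroup E2) (f : SpecialLinearGroup (Fin 2) F →* E2)
    (y t0 : SpecialLinearGroup (Fin 2) F) (z : ↥(chevE8.group KK)) (ζ' : KK) (Fp : LK → LK) (ta : LK →ₗ[KK] LK) :
    Prop where
  ops : Ops Fp ta
  prim : IsPrimitiveRoot ζ' 17
  /-- `y` is diagonal -/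
  yer : ∀ s < 240, rz z f y (er s) = ζ' ^ (wt16 s).val • er s
  yhv : ∀ c, rz z f y (hv c) = hv c
  /-- `Fp` is the Frobenius map in frame coordinates -/
  frob : ∀ v, aK z⁻¹ (fr v) = Fp (aK z⁻¹ v)

end Cfsg.Agent.H939.L16
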